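import Groth.Agent.Lib.AdeqMod20.Cartan
import Groth.Agent.Lib.Adeq20.Basic
import Groth.Agent.Lib.RedPts.Ga
import Groth.Prelude.Def_CGrpSh2

/-!
# The additive group has no higher fppf cohomology on affine schemes
-/

set_option autoImplicit false
set_option backward.isDefEq.respectTransparency false
set_option linter.style.haveILetI false

universe u

open CategoryTheory CategoryTheory.Limits Opposite AlgebraicGeometry TensorProduct MonObj

noncomputable section

namespace GrothLib.GaDual13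

open Adeq GrothLib.Adeq20

local notation "fppf" => Scheme.fppfPrecoverage

theorem gammaSpec_mul_tmul {R : Type u} [CommRing R] (B : CommRingCat.{u}) [Algebra R B] {K : Type (u + 1)}
    [AddCommGroup K] [Module R K] (r : B) (w : Γ(Spec B, ⊤)) (x : K) :
    (Scheme.ΓSpecIso B).hom ((Scheme.ΓSpecIso B).inv r * w) ⊗ₜ[R] x = r • ((Scheme.ΓSpecIso B).hom w ⊗ₜ[R] x) := by
  rw [map_mul, Iso.inv_hom_id_apply, smul_tmul']
  rfl

/-- The structure sheaf is adequate on an affine base. -/
theorem adequateMod_unit (R : CommRingCat.{u}) :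
    adequateMod fppf (Spec R) (BigSite.unitMod fppf (Spec R)) := by
  refine ⟨PUnit.{u + 1}, fun _ => R, fun _ => 𝟙 _, ?_, fun _ => ?_⟩
  · rw [Presieve.ofArrows_pUnit]
    exact Scheme.zariskiPrecoverage_le_fppfPrecoverage _ (Precoverage.mem_coverings_of_isIso (𝟙 (Spec R)))
  let K : ModuleCat.{u + 1} R := ModuleCat.of R (ULift.{u + 1} R)
  let ev : ∀ X : (Alg (R : Type u))ᵒᵖᵒᵖ,
      (sectAb fppf (𝟙 (Spec R)) (BigSite.unitMod fppf (Spec R)).val).obj X →+ (X.unop.unop : Type u) ⊗[R] K := fun X =>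
    { toFun := fun z => (Scheme.ΓSpecIso (CommRingCat.of X.unop.unop)).hom (z : ULift.{u + 1} Γ(Spec (CommRingCat.of X.unop.unop), ⊤)).down ⊗ₜ ULift.up 1
      map_zero' := by
        show (Scheme.ΓSpecIso _).hom (0 : Γ(Spec (CommRingCat.of X.unop.unop), ⊤)) ⊗ₜ _ = _
        rw [map_zero, zero_tmul]
      map_add' := fun z w => by
        show (Scheme.ΓSpecIso _).hom ((z : ULift.{u + 1} Γ(Spec (CommRingCat.of X.unop.unop), ⊤)).down +
          (w : ULift.{u + 1} Γ(Spec (CommRingCat.of X.unop.unop), ⊤)).down) ⊗ₜ _ = _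
        rw [map_add, add_tmul] }
  let i : (toMVF fppf (𝟙 (Spec R))).obj (BigSite.unitMod fppf (Spec R)) ⟶ (underline R).obj K :=
    PresheafOfModules.homMk
      { app := fun X => AddCommGrpCat.ofHom (ev X)
        naturality := fun X Y f => by
          ext z
          show (Scheme.ΓSpecIso (CommRingCat.of Y.unop.unop)).hom
              ((Spec.map (CommRingCat.ofHom f.unop.unop.hom.toRingHom)).appTop
                (z : ULift.{u + 1} Γ(Spec (CommRingCat.of X.unop.unop), ⊤)).down) ⊗ₜ ULift.up (1 : R) =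
            f.unop.unop.hom ((Scheme.ΓSpecIso (CommRingCat.of X.unop.unop)).hom
                (z : ULift.{u + 1} Γ(Spec (CommRingCat.of X.unop.unop), ⊤)).down) ⊗ₜ ULift.up (1 : R)
          congr 1
          exact ConcreteCategory.congr_hom (Scheme.ΓSpecIso_naturality (CommRingCat.ofHom f.unop.unop.hom.toRingHom)) _ }
      (fun X r z => gammaSpec_mul_tmul (R := (R : Type u)) (CommRingCat.of X.unop.unop) r
        (z : ULift.{u + 1} Γ(Spec (CommRingCat.of X.unop.unop), ⊤)).down (ULift.up (1 : R)))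
  refine adequate_of_range i (0 : K ⟶ K) (fun B a b h => ?_) fun B x => ?_
  · have h2 := congrArg ((TensorProduct.rid R (B : Type u)).toLinearMap ∘ₗ
      (ULift.moduleEquiv : ULift.{u + 1} R ≃ₗ[R] R).toLinearMap.lTensor (B : Type u)) h
    change (TensorProduct.rid R (B : Type u)) (((Scheme.ΓSpecIso (CommRingCat.of B)).hom a.down : B) ⊗ₜ[R] (1 : R)) =
      (TensorProduct.rid R (B : Type u)) (((Scheme.ΓSpecIso (CommRingCat.of B)).hom b.down : B) ⊗ₜ[R] (1 : R)) at h2
    rw [TensorProduct.rid_tmul, TensorProduct.rid_tmul, one_smul, one_smul] at h2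
    exact ULift.ext _ _ ((ConcreteCategory.bijective_of_isIso (Scheme.ΓSpecIso (CommRingCat.of B)).hom).1 h2)
  · refine iff_of_true (by simp) ?_
    induction x using TensorProduct.induction_on with
    | zero => exact ⟨0, map_zero _⟩
    | add x y hx hy =>
      obtain ⟨a, ha⟩ := hx
      obtain ⟨b, hb⟩ := hy
      exact ⟨a + b, by rw [map_add, ha, hb]⟩
    | tmul b r =>
      refine ⟨ULift.up ((Scheme.ΓSpecIso (CommRingCat.of B)).inv (r.down • b)), ?_⟩
      show (Scheme.ΓSpecIso _).hom ((Scheme.ΓSpecIso (CommRingCat.of B)).inv (r.down • b)) ⊗ₜ ULift.up (1 : R) = _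
      rw [Iso.inv_hom_id_apply, smul_tmul]
      congr 1
      exact ULift.ext _ _ (mul_one r.down)

/-- The sheaf of points of the additive group is the structure sheaf. -/
theorem nonempty_iso_unit (S : Scheme.{u}) :
    Nonempty ((BigSite.toAbMod fppf S).obj (BigSite.unitMod fppf S) ≅ CGrpSh2.Ga fppf S) := by
  let e : ∀ T : (Over S)ᵒᵖ, ((BigSite.toAbMod fppf S).obj (BigSite.unitMod fppf S)).obj.obj T ≅
      (CGrpSh2.Ga fppf S).obj.obj T := fun T => AddEquiv.toAddCommGrpIso
    ({ toFun := fun z => ULift.up (Additive.ofMul (RedPts.gaPt z.down))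
       invFun := fun x => ULift.up (Red.gaFn x.down.toMul)
       left_inv := fun z => ULift.ext _ _ (RedPts.gaFn_gaPt _)
       right_inv := fun x => ULift.ext _ _ (congrArg Additive.ofMul (RedPts.gaFn_injective (RedPts.gaFn_gaPt _)))
       map_add' := fun a b => ULift.ext _ _ (congrArg Additive.ofMul (RedPts.gaPt_add _ _)) } :
      ULift.{u + 1} Γ(T.unop.left, ⊤) ≃+ ULift.{u + 1} (Additive (T.unop ⟶ Red.Ga S)))
  refine ⟨(fullyFaithfulSheafToPresheaf _ _).preimageIso (NatIso.ofComponents e fun {T T'} f => ?_)⟩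
  ext z
  refine ULift.ext _ _ ?_
  refine congrArg Additive.ofMul (RedPts.gaFn_injective ?_)
  change Red.gaFn (RedPts.gaPt (f.unop.left.appTop (z : ULift.{u + 1} Γ(T.unop.left, ⊤)).down)) =
    Red.gaFn (f.unop ≫ RedPts.gaPt (z : ULift.{u + 1} Γ(T.unop.left, ⊤)).down)
  rw [RedPts.gaFn_gaPt, RedPts.gaFn_comp, RedPts.gaFn_gaPt]

/-- The additive group has no higher fppf cohomology on affine schemes. -/
theorem subsingleton_H_Ga (R : CommRingCat.{u}) (n : ℕ) :
    Subsingleton (BigSite.H fppf (Spec R) (CGrpSh2.Ga fppf (Spec R)) (n + 1)) := by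
  obtain ⟨e⟩ := nonempty_iso_unit (Spec R)
  have h := AdeqMod20.subsingleton_H_of_acyc _ (AdeqMod20.acyc_of_adequateMod _ (adequateMod_unit R)) n
  exact (((Sheaf.functorH _ (n + 1)).mapIso e).addCommGroupIsoToAddEquiv.toEquiv.subsingleton_congr).mp h

end GrothLib.GaDual13
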